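import Cfsg.Prelude.Def_HallClasses
import Cfsg.Agent.H988.CPi
import Cfsg.Agent.H165.RV.Defs

/-!
# TEAM RV, S4311: row predicates (helper561)

* `FixC φ H` : the automorphism `φ` of `S` fixes the `S`-class of `H`;
* `ORow π S` : automorphisms of odd order fix the classes of Hall `π`-subgroups;
* `AutOdd S` : an automorphism of odd order centralises a given Sylow `2`-subgroup after multiplication with an inner
  automorphism;
* `SRow π S` : if every `r`-subgroup of a group `X` of automorphisms fixes a class of Hall `π`-subgroups then so does `X`;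
* `srow_of_orow` : `ORow π S → SRow π S`.
-/

set_option autoImplicit false

namespace Cfsg.Agent.H561.RV

open Cfsg Subgroup
open scoped Pointwise

/-- `φ` fixes the `S`-class of `H` -/
def FixC {S : Type*} [Group S] (φ : MulAut S) (H : Subgroup S) : Prop :=
  ∃ s : S, H.map (φ : S ≃* S).toMonoidHom = H.map (MulAut.conj s).toMonoidHom

/-- **odd automorphisms fix the classes of Hall `π`-subgroups** -/
def ORow (π : Set ℕ) (S : Type*) [Group S] : Prop :=
  ∀ H : Subgroup S, IsPiHall π H → ∀ φ : MulAut S, Odd (orderOf φ) → FixC φ H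

/-- **odd automorphisms centralise a Sylow `2`-subgroup, modulo inner automorphisms** -/
def AutOdd (S : Type*) [Group S] : Prop :=
  ∀ P : Sylow 2 S, ∀ φ : MulAut S, Odd (orderOf φ) → ∃ s : S, ∀ x ∈ P, s * φ x * s⁻¹ = x

/-- **the `S`-row** (S4311) -/
def SRow (π : Set ℕ) (S : Type*) [Group S] : Prop :=
  ∀ X : Subgroup (MulAut S),
    (∀ r : ℕ, r.Prime → ∀ R : Subgroup (MulAut S), R ≤ X → IsPGroup r R →
      ∃ H : Subgroup S, IsPiHall π H ∧ ∀ φ ∈ R, FixC φ H) →
    ∃ H : Subgroup S, IsPiHall π H ∧ ∀ φ ∈ X, FixC φ H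

section basic

variable {S : Type*} [Group S]

theorem fixC_iff {φ : MulAut S} {H : Subgroup S} : FixC φ H ↔ ∃ s : S, φ • H = MulAut.conj s • H := Iff.rfl

theorem FixC.one (H : Subgroup S) : FixC (1 : MulAut S) H := fixC_iff.2 ⟨1, by rw [map_one]⟩

theorem FixC.conj (s : S) (H : Subgroup S) : FixC (MulAut.conj s) H := ⟨s, rfl⟩

/-- `φ ∘ conj s = conj (φ s) ∘ φ` -/
theorem smul_conj_smul (φ : MulAut S) (s : S) (H : Subgroup S) :
    φ • MulAut.conj s • H = MulAut.conj (φ s) • φ • H := by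
  rw [← mul_smul, ← mul_smul]
  congr 1
  ext x
  simp

theorem FixC.mul {φ ψ : MulAut S} {H : Subgroup S} (h : FixC φ H) (h' : FixC ψ H) : FixC (φ * ψ) H := by
  obtain ⟨s, hs⟩ := fixC_iff.1 h
  obtain ⟨t, ht⟩ := fixC_iff.1 h'
  refine fixC_iff.2 ⟨φ t * s, ?_⟩
  rw [mul_smul, ht, smul_conj_smul, hs, ← mul_smul, ← map_mul]

theorem FixC.inv {φ : MulAut S} {H : Subgroup S} (h : FixC φ H) : FixC φ⁻¹ H := by
  obtain ⟨s, hs⟩ := fixC_iff.1 h
  refine fixC_iff.2 ⟨φ⁻¹ s⁻¹, ?_⟩
  have h1 : φ⁻¹ • φ • H = H := inv_smul_smul φ H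
  rw [hs, smul_conj_smul] at h1
  have h2 := congrArg (fun K => (MulAut.conj (φ⁻¹ s))⁻¹ • K) h1
  simp only [inv_smul_smul] at h2
  rw [h2, ← map_inv, map_inv φ⁻¹ s]

/-- the automorphisms fixing the class of `H` -/
def fixer (H : Subgroup S) : Subgroup (MulAut S) where
  carrier := {φ | FixC φ H}
  one_mem' := FixC.one H
  mul_mem' := fun h h' => FixC.mul h h'
  inv_mem' := fun h => FixC.inv h

theorem mem_fixer {φ : MulAut S} {H : Subgroup S} : φ ∈ fixer H ↔ FixC φ H := Iff.rfl

theorem conj_mem_fixer (s : S) (H : Subgroup S) : MulAut.conj s ∈ fixer H := FixC.conj s H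

end basic

/-- A subgroup containing a Sylow `2`-subgroup and all elements of odd prime power order is everything. -/
theorem le_of_sylow_two {A : Type*} [Group A] [Finite A] {X F : Subgroup A} (P : Sylow 2 X)
    (hP : (P : Subgroup X).map X.subtype ≤ F) (h : ∀ x ∈ X, Odd (orderOf x) → x ∈ F) : X ≤ F := by
  have h1 : (F.subgroupOf X).index = 1 := by
    by_contra hne
    obtain ⟨r, hr, hd⟩ := Nat.exists_prime_and_dvd hne
    have : Fact r.Prime := ⟨hr⟩
    have h2 : ∃ Q : Sylow r X, (Q : Subgroup X) ≤ F.subgroupOf X := by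
      by_cases h2 : r = 2
      · subst h2
        refine ⟨P, fun x hx => ?_⟩
        exact hP ⟨x, hx, rfl⟩
      · refine ⟨default, fun x hx => ?_⟩
        refine h _ x.2 ?_
        obtain ⟨n, hn⟩ := (default : Sylow r X).isPGroup'.exists_card_eq
        have h3 : orderOf x ∣ r ^ n := by
          rw [← hn, ← Subgroup.orderOf_mk x hx]
          exact orderOf_dvd_natCard _
        have h4 : orderOf (x : A) ∣ r ^ n := by rwa [Subgroup.orderOf_coe]
        exact Odd.of_dvd_nat ((hr.odd_of_ne_two h2).pow) h4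
    obtain ⟨Q, hQ⟩ := h2
    exact Q.not_dvd_index (hd.trans (index_dvd_of_le hQ))
  intro x hx
  have h2 := Subgroup.index_eq_one.1 h1
  have h3 : (⟨x, hx⟩ : X) ∈ F.subgroupOf X := by rw [h2]; trivial
  exact h3

/-- Bezout -/
theorem mem_of_pow_mem {A : Type*} [Group A] {F : Subgroup A} {x : A} {a b : ℕ} (hab : a.Coprime b)
    (h : x ^ a ∈ F) (h' : x ^ b ∈ F) : x ∈ F := by
  have h1 : ((a : ℤ) * a.gcdA b + b * a.gcdB b) = 1 := by
    rw [← Nat.gcd_eq_gcd_ab, hab.gcd_eq_one]; rfl
  have h2 : x = (x ^ a) ^ (a.gcdA b) * (x ^ b) ^ (a.gcdB b) := by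
    rw [← zpow_natCast, ← zpow_natCast, ← zpow_mul, ← zpow_mul, ← zpow_add, h1, zpow_one]
  rw [h2]
  exact F.mul_mem (F.zpow_mem h _) (F.zpow_mem h' _)

/-- **`ORow → SRow`** -/
theorem srow_of_orow {π : Set ℕ} {S : Type*} [Group S] [Finite S] (h : ORow π S) : SRow π S := by
  intro X hX
  have hfin : Finite (MulAut S) := Finite.of_injective (fun f : MulAut S => (f : S → S)) DFunLike.coe_injective
  obtain ⟨P⟩ : Nonempty (Sylow 2 X) := inferInstance
  obtain ⟨H, hH, hR⟩ := hX 2 Nat.prime_two ((P : Subgroup X).map X.subtype) (map_subtype_le _)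
    (P.isPGroup'.map _)
  refine ⟨H, hH, fun φ hφ => ?_⟩
  exact le_of_sylow_two (F := fixer H) P (fun φ hφ => hR φ hφ) (fun φ _ ho => h H hH φ ho) hφ

/-- if the group of outer automorphisms is an `r`-group then the `S`-row holds -/
theorem srow_of_out_pGroup {π : Set ℕ} {S : Type*} [Group S] [Finite S] {r : ℕ} (hr : r.Prime)
    (h : ∀ φ : MulAut S, ∃ n : ℕ, ∃ s : S, φ ^ r ^ n = MulAut.conj s) : SRow π S := by
  intro X hX
  have : Fact r.Prime := ⟨hr⟩
  have hfin : Finite (MulAut S) := Finite.of_injective (fun f : MulAut S => (f : S → S)) DFunLike.coe_injective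
  obtain ⟨P⟩ : Nonempty (Sylow r X) := inferInstance
  obtain ⟨H, hH, hR⟩ := hX r hr ((P : Subgroup X).map X.subtype) (map_subtype_le _) (P.isPGroup'.map _)
  refine ⟨H, hH, ?_⟩
  -- the image of `fixer H ⊓ X` has `r`-power index in `X` and contains a Sylow `r`-subgroup
  have hle : X ≤ fixer H := by
    have h1 : ((fixer H).subgroupOf X).index = 1 := by
      have h2 : ¬ r ∣ ((fixer H).subgroupOf X).index := by
        intro hd
        have hP : (P : Subgroup X) ≤ (fixer H).subgroupOf X := fun x hx => hR _ ⟨x, hx, rfl⟩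
        exact P.not_dvd_index (hd.trans (index_dvd_of_le hP))
      by_contra hne
      obtain ⟨t, ht, hd⟩ := Nat.exists_prime_and_dvd hne
      have : Fact t.Prime := ⟨ht⟩
      have htr : t ≠ r := fun h => h2 (h ▸ hd)
      -- Sylow `t`-subgroups act as inner automorphisms
      have h3 : ((default : Sylow t X) : Subgroup X) ≤ (fixer H).subgroupOf X := by
        intro x hx
        obtain ⟨n, s, hs⟩ := h (x : MulAut S)
        obtain ⟨m, hm⟩ := (default : Sylow t X).isPGroup'.exists_card_eq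
        have h5 : (x : MulAut S) ^ t ^ m = 1 := by
          have h4 : orderOf x ∣ t ^ m := by
            rw [← hm, ← Subgroup.orderOf_mk x hx]
            exact orderOf_dvd_natCard _
          have := orderOf_dvd_iff_pow_eq_one.1 h4
          exact_mod_cast congrArg Subtype.val this
        have hcop : (r ^ n).Coprime (t ^ m) :=
          Nat.Coprime.pow _ _ ((Nat.coprime_primes hr ht).2 (Ne.symm htr))
        refine mem_of_pow_mem (F := (fixer H).subgroupOf X) hcop ?_ ?_
        · show ((x ^ r ^ n : X) : MulAut S) ∈ fixer H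
          rw [SubmonoidClass.coe_pow, hs]
          exact conj_mem_fixer s H
        · show ((x ^ t ^ m : X) : MulAut S) ∈ fixer H
          rw [SubmonoidClass.coe_pow, h5]
          exact one_mem _
      exact (default : Sylow t X).not_dvd_index (hd.trans (index_dvd_of_le h3))
    intro x hx
    have h2 := Subgroup.index_eq_one.1 h1
    have h3 : (⟨x, hx⟩ : X) ∈ (fixer H).subgroupOf X := by rw [h2]; trivial
    exact h3
  exact fun φ hφ => hle hφ

/-- helper165's theorem PG at a simple group -/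
def PGAt (π : Set ℕ) (S : Type*) [Group S] : Prop :=
  ∀ H : Subgroup S, IsPiHall π H → ∀ P : Sylow 2 S, (P : Subgroup S) ≤ H → ∀ φ : MulAut S, Odd (orderOf φ) →
    (∀ x ∈ P, φ x = x) → FixC φ H

/-- `(conj s * φ) ^ k` is inner if `φ ^ k = 1` -/
theorem conj_mul_pow {S : Type*} [Group S] (s : S) (φ : MulAut S) (k : ℕ) :
    ∃ t : S, (MulAut.conj s * φ) ^ k = MulAut.conj t * φ ^ k := by
  induction k with
  | zero => exact ⟨1, by simp⟩
  | succ k ih =>
    obtain ⟨t, ht⟩ := ih
    refine ⟨s * φ t, ?_⟩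
    rw [pow_succ', ht, pow_succ' φ k]
    ext x
    simp [mul_assoc]

/-- **`ORow` from the theorem PG and `AutOdd`** -/
theorem orow_of_pgAt {π : Set ℕ} {S : Type*} [Group S] [Finite S] (h2 : 2 ∈ π) (hpg : PGAt π S) (hA : AutOdd S) :
    ORow π S := by
  intro H hH φ hφ
  have hfin : Finite (MulAut S) := Finite.of_injective (fun f : MulAut S => (f : S → S)) DFunLike.coe_injective
  -- a Sylow `2`-subgroup of `S` in `H`
  obtain ⟨P, hP⟩ : ∃ P : Sylow 2 S, (P : Subgroup S) ≤ H := by
    obtain ⟨Q⟩ : Nonempty (Sylow 2 H) := inferInstance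
    have h1 : ¬ 2 ∣ ((Q : Subgroup H).map H.subtype).index := by
      rw [index_map_subtype]
      intro hd
      rcases (Nat.prime_two.dvd_mul).1 hd with h | h
      · exact Q.not_dvd_index h
      · exact hH.2 2 Nat.prime_two h2 h
    exact ⟨(Q.isPGroup'.map H.subtype).toSylow h1, map_subtype_le _⟩
  obtain ⟨s, hs⟩ := hA P φ hφ
  set ψ : MulAut S := MulAut.conj s * φ with hψ
  have hψP : ∀ x ∈ P, ψ x = x := fun x hx => hs x hx
  have hmem : ψ ∈ fixer H := by
    obtain ⟨a, m, hm, ho⟩ := Nat.exists_eq_two_pow_mul_odd (n := orderOf ψ) (orderOf_pos ψ).ne'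
    have hcop : (2 ^ a).Coprime (orderOf φ) := Nat.Coprime.pow_left a (Nat.coprime_two_left.2 hφ)
    refine mem_of_pow_mem hcop ?_ ?_
    · refine hpg H hH P hP (ψ ^ 2 ^ a) ?_ ?_
      · have h1 : orderOf (ψ ^ 2 ^ a) = m := by
          rw [orderOf_pow_of_dvd (pow_ne_zero _ two_ne_zero) (ho ▸ dvd_mul_right _ _), ho]
          exact Nat.mul_div_cancel_left m (Nat.two_pow_pos a)
        rw [h1]; exact hm
      · intro x hx
        have h1 : ∀ k : ℕ, (ψ ^ k) x = x := by
          intro k
          induction k with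
          | zero => rfl
          | succ k ih => rw [pow_succ, MulAut.mul_apply, hψP x hx, ih]
        exact h1 _
    · obtain ⟨t, ht⟩ := conj_mul_pow s φ (orderOf φ)
      rw [hψ, ht, pow_orderOf_eq_one, mul_one]
      exact conj_mem_fixer t H
  have h3 : φ = MulAut.conj s⁻¹ * ψ := by
    rw [hψ, ← mul_assoc, ← map_mul, inv_mul_cancel, map_one, one_mul]
  rw [h3]
  exact (fixer H).mul_mem (conj_mem_fixer s⁻¹ H) hmem

/-- `ORow → CRow` (helper165's row for S3851) -/
theorem crow_of_orow {π : Set ℕ} {S : Type*} [Group S] [Finite S] (h2 : 2 ∈ π) (h : ORow π S) :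
    Cfsg.Agent.H165.RV.CRow π S := by
  intro H hH φ hφ
  refine h H hH φ ?_
  rw [← Nat.not_even_iff_odd]
  intro he
  exact hφ 2 Nat.prime_two he.two_dvd h2

end Cfsg.Agent.H561.RV
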