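import Cfsg.Agent.H561.RV.Defs
import Cfsg.Agent.OddOrderLocal.HallPi
import Cfsg.Prelude.Def_KGroupFacts

/-!
# Criteria for `AutOdd` (helper561)

`C` is a group of automorphisms centralising a Sylow `2`-subgroup `P₀` of `S` (for instance the standard field automorphisms
of odd order, and block scalars).

* `autOdd_of_index` : `Out S` solvable and `|Aut S : C Inn S|` a power of two: `AutOdd S`;
* `autOdd_of_layers` : the same from a chain `Inn S ≤ D ≤ Aut S`, `Aut S / D` abelian, with elementwise hypotheses.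
* `AutOdd.of_equiv`.
-/

set_option autoImplicit false

namespace Cfsg.Agent.H561.RV

open Cfsg Subgroup
open scoped Pointwise
open Cfsg.Agent.OddOrderLocal.HallPi

section

variable {S : Type*} [Group S] [Finite S]

theorem autOdd_of_index (hsol : Group.IsSolvable (Out S)) (P₀ : Sylow 2 S) (C : Subgroup (MulAut S))
    (hC : ∀ φ ∈ C, ∀ x ∈ P₀, φ x = x) (hidx : ∀ r : ℕ, r.Prime → r ∣ (C ⊔ Inn S).index → r = 2) : AutOdd S := by
  have hfin : Finite (MulAut S) := Finite.of_injective (fun f : MulAut S => (f : S → S)) DFunLike.coe_injective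
  intro P φ hφ
  set mk := QuotientGroup.mk' (Inn S) with hmk
  have hmks : Function.Surjective mk := QuotientGroup.mk'_surjective _
  have htop : Group.IsSolvable (⊤ : Subgroup (Out S)) := inferInstance
  have hCs : Group.IsSolvable (C.map mk) := inferInstance
  obtain ⟨D, hD⟩ := exists_isPiHallOf hCs {r : ℕ | r ≠ 2}
  have hD' : Cfsg.IsPiHallOf {r : ℕ | r ≠ 2} D ⊤ := by
    refine ⟨le_top, hD.2.1, fun p hp hπ hd => ?_⟩
    rw [← relIndex_mul_relIndex D (C.map mk) ⊤ hD.1 le_top] at hd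
    rcases (hp.dvd_mul).mp hd with h | h
    · exact hD.2.2 p hp hπ h
    · rw [relIndex_top_right] at h
      have h1 : (C.map mk).index = (C ⊔ Inn S).index := by
        rw [index_map, hmk, QuotientGroup.ker_mk', MonoidHom.range_eq_top.2 (QuotientGroup.mk'_surjective _),
          index_top, mul_one]
      rw [h1] at h
      exact hπ (hidx p hp h)
  obtain ⟨m, -, hm⟩ := exists_conj_le_of_isPiHallOf htop hD' (X := zpowers (mk φ)) le_top (by
    intro p hp hd
    rw [Nat.card_zpowers] at hd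
    intro h2
    rw [h2] at hd
    have h3 := hd.trans (orderOf_map_dvd mk φ)
    exact (Nat.not_even_iff_odd.2 hφ) (even_iff_two_dvd.2 h3))
  obtain ⟨k, rfl⟩ := hmks m
  have h1 : mk k * mk φ * (mk k)⁻¹ ∈ C.map mk := hD.1 (hm ⟨mk φ, mem_zpowers _, rfl⟩)
  obtain ⟨c, hc, hck⟩ := h1
  -- `φ = k⁻¹ c k * conj t`
  obtain ⟨t, ht⟩ : ∃ t : S, φ = (k⁻¹ * c * k) * MulAut.conj t := by
    have h2 : mk ((k⁻¹ * c * k)⁻¹ * φ) = 1 := by
      rw [map_mul, map_inv, map_mul, map_mul, hck, map_inv]; group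
    have h3 : (k⁻¹ * c * k)⁻¹ * φ ∈ Inn S := (QuotientGroup.eq_one_iff _).1 h2
    obtain ⟨t, ht⟩ := h3
    exact ⟨t, by rw [ht]; group⟩
  set ψ : MulAut S := k⁻¹ * c * k with hψ
  -- `ψ` centralises `k⁻¹ • P₀`
  have hψP : ∀ y ∈ (k⁻¹ • P₀ : Sylow 2 S), ψ y = y := by
    intro y hy
    have hy' : y ∈ k⁻¹ • (P₀ : Subgroup S) := hy
    obtain ⟨z, hz, rfl⟩ := (mem_smul_pointwise_iff_exists _ _ _).1 hy'
    have h4 : k (k⁻¹ • z) = z := MulAut.apply_inv_self S k z
    have h5 : ψ (k⁻¹ • z) = k⁻¹ (c (k (k⁻¹ • z))) := rfl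
    rw [h5, h4, hC c hc z hz]
    rfl
  obtain ⟨g, hg⟩ := MulAction.exists_smul_eq S (k⁻¹ • P₀ : Sylow 2 S) P
  refine ⟨g * (ψ (t * g))⁻¹, fun x hx => ?_⟩
  rw [← hg] at hx
  have hx' : x ∈ MulAut.conj g • ((k⁻¹ • P₀ : Sylow 2 S) : Subgroup S) := by
    rw [← Sylow.coe_subgroup_smul]; exact hx
  obtain ⟨y, hy, rfl⟩ := (mem_smul_pointwise_iff_exists _ _ _).1 hx'
  have h6 : φ (MulAut.conj g • y) = ψ (t * g) * y * (ψ (t * g))⁻¹ := by
    rw [ht]
    have h7 : (ψ * MulAut.conj t) (MulAut.conj g • y) = ψ ((t * g) * y * (t * g)⁻¹) := by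
      simp [MulAut.smul_def, mul_assoc]
    rw [h7, map_mul, map_mul, hψP y hy, map_inv]
  rw [h6, MulAut.smul_def, MulAut.conj_apply]
  group

/-- a quotient by a subgroup `B` containing the commutators, all of whose elements have `2`-power order -/
theorem two_of_dvd_relIndex {A : Type*} [Group A] [Finite A] {B D : Subgroup A} (hBD : B ≤ D)
    (hn : D ≤ normalizer (B : Set A)) (h : ∀ δ ∈ D, ∃ n : ℕ, δ ^ 2 ^ n ∈ B) {r : ℕ} (hr : r.Prime)
    (hd : r ∣ B.relIndex D) : r = 2 := by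
  have : Fact r.Prime := ⟨hr⟩
  have hn' : (B.subgroupOf D).Normal := (normal_subgroupOf_iff_le_normalizer hBD).2 hn
  have hd' : r ∣ Nat.card (D ⧸ B.subgroupOf D) := hd
  obtain ⟨x, hx⟩ := exists_prime_orderOf_dvd_card' r hd'
  obtain ⟨y, rfl⟩ := QuotientGroup.mk'_surjective (B.subgroupOf D) x
  obtain ⟨n, hn⟩ := h y y.2
  have h1 : (QuotientGroup.mk' (B.subgroupOf D) y) ^ 2 ^ n = 1 := by
    rw [← map_pow]
    exact (QuotientGroup.eq_one_iff _).2 hn
  have h2 : r ∣ 2 ^ n := hx ▸ orderOf_dvd_of_pow_eq_one h1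
  exact (Nat.prime_dvd_prime_iff_eq hr Nat.prime_two).1 (hr.dvd_of_dvd_pow h2)

/-- **The criterion with a layer `Inn S ≤ D ≤ Aut S`**: `Aut S / D` abelian and a `2`-group modulo the image of `C`;
`D / Inn S` a `2`-group or abelian and a `2`-group modulo the image of `C`. -/
theorem autOdd_of_layers (hsol : Group.IsSolvable (Out S)) (P₀ : Sylow 2 S) (C D : Subgroup (MulAut S))
    (hC : ∀ φ ∈ C, ∀ x ∈ P₀, φ x = x) [hDn : D.Normal] (hID : Inn S ≤ D)
    (hAD : ∀ φ ψ : MulAut S, φ * ψ * φ⁻¹ * ψ⁻¹ ∈ D) (hA : ∀ φ : MulAut S, ∃ n : ℕ, φ ^ 2 ^ n ∈ C ⊔ D)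
    (hD : (∀ δ ∈ D, ∃ n : ℕ, δ ^ 2 ^ n ∈ Inn S) ∨
      (∀ φ ∈ D, ∀ ψ ∈ D, φ * ψ * φ⁻¹ * ψ⁻¹ ∈ Inn S) ∧ ∀ δ ∈ D, ∃ n : ℕ, δ ^ 2 ^ n ∈ C ⊔ Inn S) : AutOdd S := by
  have hfin : Finite (MulAut S) := Finite.of_injective (fun f : MulAut S => (f : S → S)) DFunLike.coe_injective
  refine autOdd_of_index hsol P₀ C hC fun r hr hd => ?_
  have hle : C ⊔ Inn S ≤ C ⊔ D := sup_le_sup_left hID C
  rw [← relIndex_mul_index hle] at hd
  rcases (hr.dvd_mul).1 hd with h | h
  · -- `|C D : C Inn|`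
    have h1 : (C ⊔ Inn S).relIndex (C ⊔ D) = (C ⊔ Inn S).relIndex D := by
      have h2 : C ⊔ D = (C ⊔ Inn S) ⊔ D := by rw [sup_assoc, sup_eq_right.2 hID]
      have h3 := relIndex_mul_index (le_sup_left : C ⊔ Inn S ≤ (C ⊔ Inn S) ⊔ D)
      have h4 : (C ⊔ Inn S).relIndex D * ((C ⊔ Inn S) ⊔ D).index = (C ⊔ Inn S).index :=
        Cfsg.Agent.H988.CPi.relIndex_mul_sup_index _ _
      rw [h2]
      exact Nat.eq_of_mul_eq_mul_right (Nat.pos_of_ne_zero index_ne_zero_of_finite) (h3.trans h4.symm)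
    rw [h1, ← inf_relIndex_right] at h
    rcases hD with hD | ⟨hD1, hD2⟩
    · refine two_of_dvd_relIndex hID (fun d _ => ?_) hD hr
        (h.trans (relIndex_dvd_of_le_left D (le_inf le_sup_right hID)))
      rw [normalizer_eq_top]; trivial
    · refine two_of_dvd_relIndex inf_le_right (fun d hd' => ?_) (fun δ hδ => ?_) hr h
      · rw [mem_normalizer_iff]
        have key : ∀ d ∈ D, ∀ x ∈ (C ⊔ Inn S) ⊓ D, d * x * d⁻¹ ∈ (C ⊔ Inn S) ⊓ D := by
          intro d hd' x hx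
          refine ⟨?_, D.mul_mem (D.mul_mem hd' hx.2) (D.inv_mem hd')⟩
          have h5 := hD1 d hd' x hx.2
          have h6 : d * x * d⁻¹ = (d * x * d⁻¹ * x⁻¹) * x := by group
          rw [h6]
          exact mul_mem ((le_sup_right : Inn S ≤ C ⊔ Inn S) h5) hx.1
        intro x
        constructor
        · exact key d hd' x
        · intro hx
          have := key d⁻¹ (D.inv_mem hd') _ hx
          have h7 : d⁻¹ * (d * x * d⁻¹) * d⁻¹⁻¹ = x := by group
          rwa [h7] at this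
      · obtain ⟨n, hn⟩ := hD2 δ hδ
        exact ⟨n, hn, D.pow_mem hδ _⟩
  · have h8 : r ∣ (C ⊔ D).relIndex ⊤ := by rwa [relIndex_top_right]
    refine two_of_dvd_relIndex le_top (fun d _ => ?_) (fun φ _ => hA φ) hr h8
    rw [mem_normalizer_iff]
    have key : ∀ d : MulAut S, ∀ x ∈ C ⊔ D, d * x * d⁻¹ ∈ C ⊔ D := by
      intro d x hx
      have h5 := hAD d x
      have h6 : d * x * d⁻¹ = (d * x * d⁻¹ * x⁻¹) * x := by group
      rw [h6]
      exact mul_mem ((le_sup_right : D ≤ C ⊔ D) h5) hx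
    intro x
    constructor
    · exact key d x
    · intro hx
      have := key d⁻¹ _ hx
      have h7 : d⁻¹ * (d * x * d⁻¹) * d⁻¹⁻¹ = x := by group
      rwa [h7] at this

end

/-- `AutOdd` is invariant under isomorphisms -/
theorem AutOdd.of_equiv {S T : Type*} [Group S] [Group T] (e : S ≃* T) (h : AutOdd T) : AutOdd S := by
  intro P φ hφ
  let φ' : MulAut T := (e.symm.trans φ).trans e
  have hpow : ∀ n : ℕ, ∀ x : T, (φ' ^ n) x = e ((φ ^ n) (e.symm x)) := by
    intro n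
    induction n with
    | zero => intro x; simp
    | succ n ih =>
      intro x
      rw [pow_succ', MulAut.mul_apply, ih, pow_succ', MulAut.mul_apply]
      show e (φ (e.symm (e _))) = _
      rw [e.symm_apply_apply]
  have hodd : Odd (orderOf φ') := by
    refine Odd.of_dvd_nat hφ (orderOf_dvd_of_pow_eq_one ?_)
    ext x
    rw [hpow, pow_orderOf_eq_one]
    simp
  let P' : Sylow 2 T :=
    { toSubgroup := (P : Subgroup S).map e.toMonoidHom
      isPGroup' := P.isPGroup'.map _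
      is_maximal' := by
        intro Q hQ hle
        have h1 : (P : Subgroup S) ≤ Q.comap e.toMonoidHom := fun x hx => hle ⟨x, hx, rfl⟩
        have h2 : IsPGroup 2 (Q.comap e.toMonoidHom) := hQ.comap_of_injective _ e.injective
        have h3 := P.is_maximal' h2 h1
        rw [← h3, map_comap_eq_self_of_surjective e.surjective] }
  obtain ⟨t, ht⟩ := h P' φ' hodd
  refine ⟨e.symm t, fun x hx => ?_⟩
  have h4 := ht (e x) ⟨x, hx, rfl⟩
  have h5 : φ' (e x) = e (φ x) := by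
    show e (φ (e.symm (e x))) = _
    rw [e.symm_apply_apply]
  rw [h5] at h4
  apply e.injective
  rw [map_mul, map_mul, map_inv, e.apply_symm_apply]
  exact h4

end Cfsg.Agent.H561.RV
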