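import Cfsg.Agent.H165.RV.Aut
import Cfsg.Agent.H165.RV.Final
import Cfsg.Agent.H205.RV.OutTwo
import Cfsg.Agent.H565.RV.CRowOwn
import Cfsg.Agent.H561.RV.Star
import Cfsg.Agent.H89.RV.Psl
import Cfsg.Agent.H805.RV.PSp
import Cfsg.Agent.H486.RV.AoPsu
import Cfsg.Agent.H42.RV.Ree
import Cfsg.Agent.H261.AO.OOdd
import Cfsg.Agent.H269.AO.Main
import Cfsg.Agent.H241.AO.Minus
import Cfsg.Agent.H81.AoChev
import Cfsg.Agent.H618.AO.E6
import Cfsg.Agent.H686.AO.TwESix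
import Cfsg.Agent.H86.RV.D4F
import Cfsg.Agent.OddHalf.Known

/-!
# S4311: the `S`-row of all simple groups, assembly (helper561)

* `autOdd_cross` : the simple groups of Lie type in odd characteristic, except `PΩ₈⁺(q)`, have `AutOdd`;
* `srow_known` : the `S`-row of the simple groups, from the rows `NRow`, `BRow` (helper165) and the row of `PΩ₈⁺(q)`.
-/

set_option autoImplicit false

namespace Cfsg.Agent.H561.RV

open Subgroup Cfsg

universe u

variable {S : Type u} [Group S] [Finite S]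

theorem odd_card_of {F : Type} [Field F] [Fintype F] {p : ℕ} [CharP F p] (hp2 : p ≠ 2) : Odd (Fintype.card F) := by
  refine Nat.odd_iff.2 (FiniteField.odd_card_of_char_ne_two ?_)
  rw [ringChar.eq F p]; exact hp2

/-- **`AutOdd` in odd characteristic** -/
theorem autOdd_cross {p : ℕ} (hp2 : p ≠ 2) (h : IsLieTypeChar p S) :
    AutOdd S ∨ ∃ (F : Type) (_ : Field F) (_ : Fintype F) (_ : CharP F p), Nonempty (S ≃* POmega F (quadFormPlus 4 F)) := by
  rcases h with h | h | h | h | h | h | h | h | ⟨h, -⟩ | ⟨h, -⟩ | ⟨rfl, h⟩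
  · obtain ⟨F, iF, iFin, iC, n, hn, hn4, ⟨e⟩⟩ := h
    exact Or.inl (AutOdd.of_equiv e (H89.RV.autOdd_psl' (odd_card_of hp2) hn))
  · obtain ⟨F, iF, iFin, iC, m, hm, -, ⟨e⟩⟩ := h
    exact Or.inl (AutOdd.of_equiv e (H805.RV.PSp.autOdd_psp (odd_card_of hp2) hm))
  · obtain ⟨F, iF, iFin, iC, n, q, hq, hn, -, ⟨e⟩⟩ := h
    have hodd : Odd (Fintype.card F) := odd_card_of hp2
    have hq' : Odd q := by
      rw [hq, pow_two] at hodd
      exact Nat.Odd.of_mul_left hodd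
    exact Or.inl (AutOdd.of_equiv e (H486.RV.autOdd_psu hq hq' hn))
  · obtain ⟨F, iF, iFin, iC, m, hm, hodd, ⟨e⟩⟩ := h
    exact Or.inl (AutOdd.of_equiv e (H261.AO.OOdd.autOdd_oOdd hodd hm))
  · obtain ⟨F, iF, iFin, iC, m, hm, ⟨e⟩⟩ := h
    rcases Nat.lt_or_ge m 5 with h5 | h5
    · obtain rfl : m = 4 := by omega
      exact Or.inr ⟨F, iF, iFin, iC, ⟨e⟩⟩
    · exact Or.inl (AutOdd.of_equiv e (H269.AO.autOdd_oPlus (odd_card_of hp2) h5))
  · obtain ⟨F, iF, iFin, iC, m, a, b, hm, hab, ⟨e⟩⟩ := h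
    exact Or.inl (AutOdd.of_equiv e (H241.AO.autOdd_oMinus (odd_card_of hp2) (by omega) a b hab))
  · obtain ⟨F, iF, iFin, iC, h⟩ := h
    have hodd : Odd (Fintype.card F) := odd_card_of hp2
    rcases h with ⟨h3, ⟨e⟩⟩ | ⟨⟨e⟩⟩ | ⟨⟨e⟩⟩ | ⟨⟨e⟩⟩ | ⟨⟨e⟩⟩
    · exact Or.inl (AutOdd.of_equiv e (H81.AoChev.autOdd_g2 h3 hodd))
    · exact Or.inl (AutOdd.of_equiv e (H81.AoChev.autOdd_f4 hodd))
    · exact Or.inl (AutOdd.of_equiv e (H618.AO.autOdd_e6 hodd))
    · exact Or.inl (AutOdd.of_equiv e (H81.AoChev.autOdd_e7 hodd))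
    · exact Or.inl (AutOdd.of_equiv e (H81.AoChev.autOdd_e8 hodd))
  · obtain ⟨F, iF, iFin, iC, q, hq, h⟩ := h
    have hodd : Odd (Fintype.card F) := odd_card_of hp2
    have hqo : ∀ k : ℕ, k ≠ 0 → Fintype.card F = q ^ k → Odd q := by
      intro k hk hc
      rw [hc] at hodd
      exact (Nat.odd_pow_iff hk).1 hodd
    rcases h with ⟨hc, ⟨e⟩⟩ | ⟨hc, ⟨e⟩⟩
    · exact Or.inl (AutOdd.of_equiv e (H686.AO.autOdd_2e6 hq (hqo 2 two_ne_zero hc) hc))
    · exact Or.inl (AutOdd.of_equiv e (H86.RV.autOdd_3d4 hq (hqo 3 three_ne_zero hc) hc))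
  · exact absurd h hp2
  · exact absurd h hp2
  · exact Or.inl (H42.RV.autOdd_ree h)

variable {π : Set ℕ}

/-- **the `S`-row** -/
theorem srow_known [IsSimpleGroup S] (h2 : 2 ∈ π)
    (hN : ∀ (S : Type u) [Group S] [Finite S] [IsSimpleGroup S], ¬ IsMulCommutative S → H165.RV.NRow π S)
    (hB : ∀ (S : Type u) [Group S] [Finite S] [IsSimpleGroup S], ¬ IsMulCommutative S → H165.RV.BRow π S)
    (hD4 : ∀ p : ℕ, p.Prime → p ∉ π → ∀ (F : Type) [Field F] [Fintype F] [CharP F p],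
      Nonempty (S ≃* POmega F (quadFormPlus 4 F)) → SRow π S)
    (hna : ¬ IsMulCommutative S) (hK : IsKnownSimple' S) : SRow π S := by
  rcases Cfsg.Agent.OddHalf.Known.classify hna hK with h | ⟨p, hp, hp2, h⟩ | (h | h) | h
  · exact srow_of_orow (H205.RV.orow_isAlternating h)
  · by_cases hpπ : p ∈ π
    · exact srow_of_orow (H565.RV.oRow_own hp h hpπ)
    · rcases autOdd_cross hp2 h with h | ⟨F, iF, iFin, iC, h⟩
      · exact srow_of_orow (H165.RV.orow_of_autOdd h2 hN hB hna h)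
      · exact hD4 p hp hpπ F h
  · exact srow_of_orow (H565.RV.oRow_own Nat.prime_two h h2)
  · exact srow_of_orow (H205.RV.orow_tits h)
  · exact srow_of_orow (H205.RV.orow_spor h)

end Cfsg.Agent.H561.RV
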