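import Cfsg.Agent.H561.RV.Assembly
import Cfsg.Agent.H561.D4.Final

/-!
# S4311 from the rows (helper561)
-/

set_option autoImplicit false

namespace Cfsg.Agent.H561.RV

open Subgroup Cfsg

universe u

/-- **S4311** from the classification, S4312 and the rows of helper165 -/
theorem liftHall_of (hK : ∀ (T : Type) [Group T] [Finite T] [IsSimpleGroup T], IsKnownSimple' T)
    (hKu : ∀ (T : Type u) [Group T] [Finite T] [IsSimpleGroup T], IsKnownSimple' T)
    (h4312 : ∀ (π : Set ℕ), (2 ∉ π ∨ 3 ∉ π) → ∀ (M : Type u) [Group M] [Finite M] (B : Subgroup M) [B.Normal],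
      IsEPiGroup π B → IsEPiGroup π (M ⧸ B) → IsEPiGroup π M)
    (hR : H165.RV.AllRows.{u}) (π : Set ℕ) : H165.RV.LiftHall.{u} π := by
  intro G _ _ A _ hG K hKA
  by_cases h2 : 2 ∈ π
  · by_cases h3 : 3 ∈ π
    · refine lift_of_rows (fun S _ _ _ hna _ => ?_) A hG K hKA
      refine srow_known h2 (fun S _ _ _ h => (hR π h2 S h).1) (fun S _ _ _ h => (hR π h2 S h).2) ?_ hna (hKu S)
      rintro p hp hpπ F _ _ _ ⟨e⟩
      exact H561.D4.srow_d4 hK h2 h3 hp hpπ e
    · exact lift_of_ext (h4312 π (Or.inr h3)) A hG K hKA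
  · exact lift_of_ext (h4312 π (Or.inl h2)) A hG K hKA

end Cfsg.Agent.H561.RV
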